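import Mathlib

set_option autoImplicit false

open IntermediateField Module

namespace FieldsMiscLib

universe u v

variable {K : Type u} {L : Type v} [Field K] [Field L] [Algebra K L]

theorem artinSchreier (p : ℕ) [Fact p.Prime] [CharP K p] [FiniteDimensional K L]
    [IsGalois K L] (hdeg : finrank K L = p) :
    ∃ z : L, z ^ p - z ∈ Set.range (algebraMap K L) ∧ K⟮z⟯ = ⊤ := by
  classical
  have : CharP L p := charP_of_injective_algebraMap (algebraMap K L).injective p
  have hcard : Nat.card Gal(L/K) = p := (IsGalois.card_aut_eq_finrank K L).trans hdeg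
  have : IsCyclic Gal(L/K) := isCyclic_of_prime_card hcard
  have e : Multiplicative (ZMod p) ≃* Gal(L/K) :=
    mulEquivOfCyclicCardEq ((Nat.card_congr Multiplicative.toAdd).trans
      ((Nat.card_zmod p).trans hcard.symm))
  let χ : Gal(L/K) → L := fun g => ZMod.castHom (dvd_refl p) L (e.symm g).toAdd
  have hχ : ∀ g h, χ (g * h) = χ g + χ h := by
    intro g h
    simp only [χ, map_mul, toAdd_mul, map_add]
  obtain ⟨c, hc⟩ := Algebra.trace_surjective K L 1
  have hsum : ∑ g : Gal(L/K), g c = 1 := by
    rw [← trace_eq_sum_automorphisms c, hc, map_one]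
  have hfix : ∀ (h g : Gal(L/K)), h (χ g) = χ g := fun h g =>
    RingHom.congr_fun (RingHom.ext_zmod
      ((h : L ≃+* L).toRingHom.comp (ZMod.castHom (dvd_refl p) L)) (ZMod.castHom (dvd_refl p) L)) _
  set y : L := - ∑ g : Gal(L/K), χ g * g c with hydef
  have hy : ∀ h : Gal(L/K), h y = y + χ h := by
    intro h
    have h1 : ∑ g : Gal(L/K), χ (h * g) * (h * g) c = ∑ g, χ g * g c :=
      Equiv.sum_comp (Equiv.mulLeft h) (fun g => χ g * g c)
    have h2 : ∑ g : Gal(L/K), (h * g) c = 1 :=
      (Equiv.sum_comp (Equiv.mulLeft h) (fun g => g c)).trans hsum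
    have h3 : h y = - ∑ g : Gal(L/K), (χ (h * g) - χ h) * (h * g) c := by
      simp only [hydef, map_neg, map_sum, map_mul, hfix, hχ, add_sub_cancel_left]
      rfl
    rw [h3]
    simp only [sub_mul, Finset.sum_sub_distrib, ← Finset.mul_sum, h1, h2, hydef]
    ring
  have hpowχ : ∀ g, χ g ^ p = χ g := fun g => by
    simp only [χ]
    rw [← map_pow, ZMod.pow_card]
  refine ⟨y, ?_, ?_⟩
  · rw [← IntermediateField.mem_bot, IsGalois.mem_bot_iff_fixed]
    intro h
    rw [map_sub, map_pow, hy, add_pow_char, hpowχ]
    ring
  · have := IntermediateField.isSimpleOrder_of_finrank_prime K L (hdeg ▸ Fact.out)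
    refine (eq_bot_or_eq_top K⟮y⟯).resolve_left fun hb => ?_
    have hyb : y ∈ (⊥ : IntermediateField K L) := hb ▸ mem_adjoin_simple_self K y
    have := (IsGalois.mem_bot_iff_fixed y).mp hyb (e (Multiplicative.ofAdd 1))
    rw [hy] at this
    have h1 : χ (e (Multiplicative.ofAdd 1)) = 1 := by
      simp only [χ, MulEquiv.symm_apply_apply, toAdd_ofAdd, map_one]
    rw [h1] at this
    simp at this

theorem algebraicClosure_finite_of_fg {k K : Type u} [Field k] [Field K] [Algebra k K]
    (hfg : (⊤ : IntermediateField k K).FG) :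
    FiniteDimensional k (algebraicClosure k K) := by
  have : Algebra.EssFiniteType k K := IntermediateField.fg_top_iff.mp hfg
  obtain ⟨s, hs⟩ := exists_isTranscendenceBasis k K
  let x : s → K := Subtype.val
  let F := IntermediateField.adjoin k (Set.range x)
  have : Algebra.IsAlgebraic F K := hs.isAlgebraic_field
  have : Algebra.EssFiniteType F K := Algebra.EssFiniteType.of_comp k F K
  have : Module.Finite F K := Algebra.finite_of_essFiniteType_of_isAlgebraic
  have hA : AlgebraicIndependent (algebraicClosure k K) x := hs.1.extendScalars _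
  have key : ∀ t : Finset (algebraicClosure k K),
      LinearIndepOn k id (t : Set (algebraicClosure k K)) → t.card ≤ finrank F K := by
    intro t ht
    let v : t → K := fun i => ((i : algebraicClosure k K) : K)
    have hR : LinearIndependent (Algebra.adjoin k (Set.range x)) v := by
      rw [Fintype.linearIndependent_iff]
      intro c hc
      have hmem : ∀ i, ∃ P : MvPolynomial s k, MvPolynomial.aeval x P = (c i : K) := fun i => by
        exact (SetLike.ext_iff.mp (Algebra.adjoin_range_eq_range_aeval k x) _).mp (c i).2
      choose P hP using hmem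
      have hz : ∑ i : t, MvPolynomial.C (i : algebraicClosure k K) *
          MvPolynomial.map (algebraMap k (algebraicClosure k K)) (P i) = 0 := by
        apply hA
        simp only [map_sum, map_mul, map_zero, MvPolynomial.aeval_C, MvPolynomial.aeval_map_algebraMap]
        rw [← hc]
        refine Finset.sum_congr rfl fun i _ => ?_
        rw [hP i, Algebra.smul_def]
        exact mul_comm _ _
      intro i
      have hPi : P i = 0 := by
        ext m
        have hm : ∑ j : t, (P j).coeff m • (j : algebraicClosure k K) = 0 := by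
          have := congrArg (MvPolynomial.coeff m) hz
          simpa [MvPolynomial.coeff_sum, MvPolynomial.coeff_C_mul, MvPolynomial.coeff_map,
            Algebra.smul_def, mul_comm] using this
        simpa using Fintype.linearIndependent_iff.mp ht (fun j => (P j).coeff m) hm i
      apply Subtype.ext
      rw [← hP i, hPi]
      simp
    have hF : LinearIndependent F v := by
      open scoped algebraAdjoinAdjoin in
      exact (LinearIndependent.iff_fractionRing (Algebra.adjoin k (Set.range x)) F).mp hR
    simpa using hF.fintype_card_le_finrank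
  exact Module.rank_lt_aleph0_iff.mp
    (lt_of_le_of_lt (rank_le key) (Cardinal.natCast_lt_aleph0))

theorem isPthPower_of_root (p : ℕ) [Fact p.Prime] [CharP K p] [Algebra.IsSeparable K L] (a : L)
    (P : Polynomial K) (hroot : Polynomial.aeval a P = 0) (hsep : P.Separable)
    (hcoeff : ∀ i : ℕ, ∃ b : K, b ^ p = P.coeff i) : ∃ c : L, c ^ p = a := by
  have : CharP L p := charP_of_injective_algebraMap (algebraMap K L).injective p
  let Ω := AlgebraicClosure L
  have : CharP Ω p := charP_of_injective_algebraMap (algebraMap L Ω).injective p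
  obtain ⟨Q, hQ⟩ : ∃ Q : Polynomial K, Q.map (frobenius K p) = P := by
    rw [← Polynomial.mem_lifts, Polynomial.lifts_iff_coeff_lifts]
    intro i
    obtain ⟨b, hb⟩ := hcoeff i
    exact ⟨b, by rw [frobenius_def, hb]⟩
  obtain ⟨c, hc⟩ := IsAlgClosed.exists_pow_nat_eq (algebraMap L Ω a) (Fact.out : p.Prime).pos
  have h1 : frobenius Ω p (Polynomial.aeval c Q) = 0 := by
    rw [Polynomial.aeval_def, Polynomial.hom_eval₂, frobenius_def, hc,
      ← RingHom.frobenius_comm, ← Polynomial.eval₂_map, hQ, ← Polynomial.aeval_def,
      Polynomial.aeval_algebraMap_apply, hroot, map_zero]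
  have hQc : Polynomial.aeval c Q = 0 := (frobenius_inj Ω p) (h1.trans (map_zero _).symm)
  have hQs : Q.Separable := by
    rw [← Polynomial.separable_map (frobenius K p), hQ]
    exact hsep
  have hc' : IsSeparable K c := Polynomial.Separable.of_dvd hQs (minpoly.dvd K c hQc)
  have hc'' : IsSeparable L c := hc'.tower_top L
  have : ExpChar L p := ExpChar.prime Fact.out
  have h2 : (minpoly L c).natSepDegree = 1 :=
    (minpoly.natSepDegree_eq_one_iff_pow_mem p).mpr ⟨1, by simpa [pow_one] using ⟨a, hc.symm⟩⟩
  rw [hc''.natSepDegree_eq_natDegree, minpoly.natDegree_eq_one_iff] at h2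
  obtain ⟨d, hd⟩ := h2
  exact ⟨d, (algebraMap L Ω).injective (by rw [map_pow, hd, hc])⟩

end FieldsMiscLib
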