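import Mathlib
import Groth.Agent.CSALib.RedNorm

set_option autoImplicit false

open IntermediateField Module
open scoped TensorProduct Polynomial

namespace FieldsMiscLib

universe u v w

theorem purelyInseparable_tower {F E : Type u} [Field F] [Field E] [Algebra F E] (p : ℕ)
    [Fact p.Prime] [CharP F p] [FiniteDimensional F E] [IsPurelyInseparable F E] :
    ∃ (n : ℕ) (a : Fin n → E), adjoin F (Set.range a) = ⊤ ∧
      (∀ i : Fin n, a i ^ p ∈ adjoin F (a '' {j | j < i}) ∧ a i ∉ adjoin F (a '' {j | j < i})) ∧
      Module.finrank F E = p ^ n := by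
  classical
  have hp : p.Prime := Fact.out
  have : ExpChar F p := ExpChar.prime hp
  let P : (n : ℕ) → (Fin n → E) → Prop := fun n a =>
    (∀ i : Fin n, a i ^ p ∈ adjoin F (a '' {j | j < i}) ∧ a i ∉ adjoin F (a '' {j | j < i})) ∧
      finrank F (adjoin F (Set.range a)) = p ^ n
  by_contra hne
  push Not at hne
  have key : ∀ n, ∃ a : Fin n → E, P n a := by
    intro n
    induction n with
    | zero =>
      refine ⟨Fin.elim0, fun i => i.elim0, ?_⟩
      rw [Set.range_eq_empty, adjoin_empty, IntermediateField.finrank_bot, pow_zero]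
    | succ n ih =>
      obtain ⟨a, ha, hr⟩ := ih
      set S := adjoin F (Set.range a) with hS
      have hStop : S ≠ ⊤ := by
        intro htop
        refine hne n a htop ha ?_
        rw [← IntermediateField.finrank_top', ← htop, hr]
      obtain ⟨x, -, hx⟩ := SetLike.exists_of_lt hStop.lt_top
      have hex : ∃ m, x ^ p ^ m ∈ S := by
        obtain ⟨m, y, hy⟩ := IsPurelyInseparable.pow_mem F p x
        exact ⟨m, hy ▸ S.algebraMap_mem y⟩
      let m := Nat.find hex
      have hm0 : m ≠ 0 := by
        intro h0
        have := Nat.find_spec hex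
        rw [show Nat.find hex = 0 from h0, pow_zero, pow_one] at this
        exact hx this
      obtain ⟨k, hk⟩ := Nat.exists_eq_succ_of_ne_zero hm0
      set b := x ^ p ^ k with hbdef
      have hb : b ∉ S := Nat.find_min hex (show k < m by omega)
      have hbp : b ^ p ∈ S := by
        have := Nat.find_spec hex
        rwa [show Nat.find hex = k + 1 from hk, pow_succ, pow_mul] at this
      refine ⟨Fin.snoc a b, fun i => ?_, ?_⟩
      · refine Fin.lastCases ?_ ?_ i
        · have himg : (Fin.snoc a b : Fin (n + 1) → E) '' {j | j < Fin.last n} = Set.range a := by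
            ext y
            constructor
            · rintro ⟨j, hj, rfl⟩
              obtain ⟨j', rfl⟩ := Fin.exists_castSucc_eq.mpr (ne_of_lt hj)
              exact ⟨j', (Fin.snoc_castSucc (α := fun _ => E) b a j').symm⟩
            · rintro ⟨j, rfl⟩
              exact ⟨j.castSucc, Fin.castSucc_lt_last j, Fin.snoc_castSucc ..⟩
          rw [himg, Fin.snoc_last, ← hS]
          exact ⟨hbp, hb⟩
        · intro i
          have himg : (Fin.snoc a b : Fin (n + 1) → E) '' {j | j < i.castSucc} = a '' {j | j < i} := by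
            ext y
            constructor
            · rintro ⟨j, hj, rfl⟩
              obtain ⟨j', rfl⟩ := Fin.exists_castSucc_eq.mpr
                (ne_of_lt (lt_trans hj (Fin.castSucc_lt_last i)))
              exact ⟨j', Fin.castSucc_lt_castSucc_iff.mp hj,
                (Fin.snoc_castSucc (α := fun _ => E) b a j').symm⟩
            · rintro ⟨j, hj, rfl⟩
              exact ⟨j.castSucc, Fin.castSucc_lt_castSucc_iff.mpr hj, Fin.snoc_castSucc ..⟩
          rw [himg, Fin.snoc_castSucc]
          exact ha i
      · have : CharP S p := charP_of_injective_algebraMap (algebraMap F S).injective p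
        have : CharP E p := charP_of_injective_algebraMap (algebraMap F E).injective p
        have hirr : Irreducible (Polynomial.X ^ p - Polynomial.C (⟨b ^ p, hbp⟩ : S)) := by
          refine X_pow_sub_C_irreducible_of_prime hp fun r hr' => hb ?_
          have h1 : (r : E) = b :=
            frobenius_inj E p (by simpa [frobenius_def] using congrArg Subtype.val hr')
          exact h1 ▸ r.2
        have hmin : minpoly S b = Polynomial.X ^ p - Polynomial.C (⟨b ^ p, hbp⟩ : S) :=
          (minpoly.eq_of_irreducible_of_monic hirr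
            (by rw [map_sub, map_pow, Polynomial.aeval_X, Polynomial.aeval_C]; exact sub_self _)
            (Polynomial.monic_X_pow_sub_C _ hp.ne_zero)).symm
        have hfr : finrank S S⟮b⟯ = p := by
          rw [adjoin.finrank (IsIntegral.of_finite S b), hmin, Polynomial.natDegree_X_pow_sub_C]
        have heq : adjoin F (Set.range (Fin.snoc a b : Fin (n + 1) → E)) = S⟮b⟯.restrictScalars F := by
          rw [Fin.range_snoc, hS, adjoin_adjoin_left, Set.union_singleton]
        have hmul : finrank F S⟮b⟯ = p ^ (n + 1) := by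
          rw [← Module.finrank_mul_finrank F S S⟮b⟯, hr, hfr, pow_succ]
        rw [heq]
        exact hmul
  obtain ⟨a, -, hn⟩ := key (finrank F E)
  have h1 : p ^ finrank F E ≤ finrank F E := hn ▸ Submodule.finrank_le (R := F) (adjoin F (Set.range a)).toSubalgebra.toSubmodule
  exact absurd h1 (not_le.mpr (Nat.lt_pow_self hp.one_lt))

theorem intermediateField_eq_adjoin_pow {K L : Type u} [Field K] [Field L] [Algebra K L]
    [FiniteDimensional K L] (a : L) (ha : K⟮a⟯ = ⊤)
    (hpow : a ^ finrank K L ∈ Set.range (algebraMap K L))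
    (hroots : (Polynomial.X ^ finrank K L - 1 : K[X]).Splits) (L' : IntermediateField K L) :
    ∃ d : ℕ, d ∣ finrank K L ∧ L' = K⟮a ^ d⟯ := by
  classical
  by_cases ha0 : a = 0
  · subst ha0
    refine ⟨1, one_dvd _, ?_⟩
    rw [pow_one]
    have hbot : (⊥ : IntermediateField K L) = ⊤ := by rw [← ha, adjoin_zero]
    rw [adjoin_zero, eq_bot_iff, hbot]
    exact le_top
  refine ⟨finrank L' L, ⟨finrank K L', by rw [mul_comm, Module.finrank_mul_finrank]⟩, ?_⟩
  set e := finrank K L with he
  set d := finrank L' L with hd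
  have he0 : 0 < e := Module.finrank_pos
  have hint : IsIntegral L' a := IsIntegral.of_finite L' a
  have htop : L'⟮a⟯ = ⊤ := adjoin_eq_top_of_adjoin_eq_top K ha
  have hdeg : (minpoly L' a).natDegree = d := by
    rw [← adjoin.finrank hint, htop, IntermediateField.finrank_top']
  obtain ⟨c, hc⟩ := hpow
  let Ω := AlgebraicClosure L
  set A := algebraMap L Ω a with hA
  have hA0 : A ≠ 0 := fun h => ha0 ((map_eq_zero _).mp h)
  have hsplit : ((minpoly L' a).map (algebraMap L' Ω)).Splits := IsAlgClosed.splits _
  have hroot : ∀ r ∈ ((minpoly L' a).map (algebraMap L' Ω)).roots,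
      ∃ z : K, z ≠ 0 ∧ r = algebraMap K Ω z * A := by
    intro r hr
    have hr0 : Polynomial.aeval r (minpoly L' a) = 0 := by
      rw [Polynomial.mem_roots', Polynomial.IsRoot, Polynomial.eval_map,
        ← Polynomial.aeval_def] at hr
      exact hr.2
    have hdvd : minpoly L' a ∣ Polynomial.X ^ e - Polynomial.C (algebraMap K L' c) := by
      apply minpoly.dvd
      rw [map_sub, map_pow, Polynomial.aeval_X, Polynomial.aeval_C,
        ← IsScalarTower.algebraMap_apply, hc, sub_self]
    have hre : r ^ e = A ^ e := by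
      have := Polynomial.aeval_eq_zero_of_dvd_aeval_eq_zero hdvd hr0
      rw [map_sub, map_pow, Polynomial.aeval_X, Polynomial.aeval_C, sub_eq_zero,
        ← IsScalarTower.algebraMap_apply] at this
      rw [this, hA, ← map_pow, ← hc, ← IsScalarTower.algebraMap_apply]
    have h1 : Polynomial.aeval (r / A) (Polynomial.X ^ e - 1 : K[X]) = 0 := by
      rw [map_sub, map_pow, Polynomial.aeval_X, map_one, div_pow, hre,
        div_self (pow_ne_zero _ hA0), sub_self]
    obtain ⟨z, hz⟩ : r / A ∈ (algebraMap K Ω).range :=
      hroots.mem_range_of_isRoot (Polynomial.X_pow_sub_C_ne_zero he0 1) (by simpa using h1)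
    refine ⟨z, ?_, by rw [hz, div_mul_cancel₀ _ hA0]⟩
    rintro rfl
    rw [map_zero, eq_comm, div_eq_zero_iff] at hz
    rcases hz with rfl | hz
    · rw [zero_pow he0.ne'] at hre
      exact pow_ne_zero _ hA0 hre.symm
    · exact hA0 hz
  have hprod : ∀ s : Multiset Ω, (∀ r ∈ s, ∃ z : K, z ≠ 0 ∧ r = algebraMap K Ω z * A) →
      ∃ z : K, z ≠ 0 ∧ s.prod = algebraMap K Ω z * A ^ Multiset.card s := by
    intro s
    induction s using Multiset.induction with
    | empty => intro _; exact ⟨1, one_ne_zero, by simp⟩
    | cons r s ih =>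
      intro h
      obtain ⟨z, hz, hs⟩ := ih fun x hx => h x (Multiset.mem_cons_of_mem hx)
      obtain ⟨y, hy, rfl⟩ := h r (Multiset.mem_cons_self r s)
      exact ⟨y * z, mul_ne_zero hy hz, by
        rw [Multiset.prod_cons, hs, Multiset.card_cons, map_mul, pow_succ]; ring⟩
  obtain ⟨z, hz, hz'⟩ := hprod _ hroot
  have hcard : Multiset.card ((minpoly L' a).map (algebraMap L' Ω)).roots = d := by
    rw [← hsplit.natDegree_eq_card_roots, Polynomial.natDegree_map, hdeg]
  have hcoeff := hsplit.coeff_zero_eq_prod_roots_of_monic ((minpoly.monic hint).map _)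
  rw [hz', hcard, Polynomial.coeff_map, Polynomial.natDegree_map, hdeg] at hcoeff
  have hmem : a ^ d ∈ L' := by
    have h2 : a ^ d = algebraMap K L z⁻¹ *
        ((-1) ^ d * ((minpoly L' a).coeff 0 : L)) := by
      apply (algebraMap L Ω).injective
      rw [map_mul, map_mul, map_pow, map_pow, map_neg, map_one, ← hA,
        ← IsScalarTower.algebraMap_apply,
        show algebraMap L Ω (((minpoly L' a).coeff 0 : L')) =
          algebraMap L' Ω ((minpoly L' a).coeff 0) from rfl, hcoeff, ← mul_assoc ((-1 : Ω) ^ d),
        ← mul_pow, neg_one_mul, neg_neg, one_pow, one_mul, map_inv₀,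
        inv_mul_cancel_left₀ (by simpa using hz)]
    rw [h2]
    exact mul_mem (L'.algebraMap_mem _) (mul_mem (pow_mem (neg_mem (one_mem _)) _) (Subtype.mem _))
  have hle : K⟮a ^ d⟯ ≤ L' := adjoin_simple_le_iff.mpr hmem
  refine (eq_of_le_of_finrank_le' hle ?_).symm
  rw [← hd]
  have hint' : IsIntegral K⟮a ^ d⟯ a := IsIntegral.of_finite _ a
  have htop' : (K⟮a ^ d⟯)⟮a⟯ = ⊤ := adjoin_eq_top_of_adjoin_eq_top K ha
  have hd0 : 0 < d := Module.finrank_pos
  calc finrank K⟮a ^ d⟯ L = (minpoly K⟮a ^ d⟯ a).natDegree := by
        rw [← adjoin.finrank hint', htop', IntermediateField.finrank_top']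
    _ ≤ (Polynomial.X ^ d - Polynomial.C (AdjoinSimple.gen K (a ^ d))).natDegree := by
        refine Polynomial.natDegree_le_of_dvd (minpoly.dvd _ _ ?_)
          (Polynomial.X_pow_sub_C_ne_zero hd0 _)
        rw [map_sub, map_pow, Polynomial.aeval_X, Polynomial.aeval_C,
          AdjoinSimple.algebraMap_gen, sub_self]
    _ = d := Polynomial.natDegree_X_pow_sub_C

theorem tensor_algClosed_bijective {F K L : Type u} [Field F] [Field K] [Field L]
    [Algebra F K] [Algebra F L] [FiniteDimensional F K] [Algebra.IsSeparable F K] [IsAlgClosed L] :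
    Function.Bijective (fun x : K ⊗[F] L => fun σ : K →ₐ[F] L =>
      Algebra.TensorProduct.lift σ (AlgHom.id F L) (fun a b => Commute.all (σ a) b) x) := by
  classical
  let f : (K →ₐ[F] L) → (L ⊗[F] K →ₐ[L] L) := fun σ =>
    Algebra.TensorProduct.lift (Algebra.ofId L L) σ (fun a b => Commute.all _ _)
  let Φ : L ⊗[F] K →ₗ[L] ((K →ₐ[F] L) → L) := LinearMap.pi fun σ => (f σ).toLinearMap
  have hΦ : ∀ (l : L) (x : K) σ, Φ (l ⊗ₜ x) σ = l * σ x := fun l x σ => by simp [Φ, f]
  have hsurj : Function.Surjective Φ := by
    rw [← LinearMap.dualMap_injective_iff, injective_iff_map_eq_zero]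
    intro φ hφ
    let c : (K →ₐ[F] L) → L := fun σ => φ (Pi.single σ 1)
    have hφc : ∀ v, φ v = ∑ σ, v σ * c σ := fun v => by
      rw [LinearMap.pi_apply_eq_sum_univ φ v]
      refine Finset.sum_congr rfl fun σ _ => ?_
      simp only [smul_eq_mul, c]
      congr 2
      funext τ
      simp [Pi.single_apply, eq_comm]
    have hc : ∑ σ, c σ • (σ : K →ₐ[F] L).toLinearMap = 0 := by
      ext x
      have h1 := LinearMap.congr_fun hφ (1 ⊗ₜ x)
      rw [LinearMap.dualMap_apply, hφc, LinearMap.zero_apply] at h1
      simpa [hΦ, mul_comm] using h1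
    have hzero := Fintype.linearIndependent_iff.mp (linearIndependent_toLinearMap F K L) c hc
    refine LinearMap.ext fun v => ?_
    rw [hφc, LinearMap.zero_apply]
    exact Finset.sum_eq_zero fun σ _ => by rw [hzero σ, mul_zero]
  have hdim : finrank L (L ⊗[F] K) = finrank L ((K →ₐ[F] L) → L) := by
    rw [Module.finrank_baseChange, Module.finrank_fintype_fun_eq_card]
    exact (AlgHom.card F K L).symm
  have hbij : Function.Bijective Φ :=
    ⟨(LinearMap.injective_iff_surjective_of_finrank_eq_finrank hdim).mpr hsurj, hsurj⟩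
  convert hbij.comp (Algebra.TensorProduct.comm F K L).bijective using 1
  funext x σ
  induction x using TensorProduct.induction_on with
  | zero => simp
  | tmul k l =>
    simp [hΦ]
    exact (Algebra.TensorProduct.lift_tmul σ (AlgHom.id F L) (fun _ _ => Commute.all _ _) k l).trans
      (mul_comm _ _)
  | add x y hx hy => simp only [Function.comp_apply, map_add, Pi.add_apply] at hx hy ⊢; rw [hx, hy]

theorem exists_surjective_piTensor {K L M : Type u} [Field K] [Field L] [Field M]
    [Algebra K L] [Algebra K M] [Algebra L M] [IsScalarTower K L M] [FiniteDimensional K L]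
    [IsNormalClosure K L M] :
    ∃ f : (⨂[K] _ : Fin (Field.finSepDegree K L), L) →ₐ[K] M, Function.Surjective f := by
  classical
  have hn : Normal K M := IsNormalClosure.normal (K := L)
  have : Algebra.IsAlgebraic L M := Algebra.IsAlgebraic.tower_top (K := K) L
  let ι : M →ₐ[L] AlgebraicClosure L := IsAlgClosed.lift
  have : Fintype (L →ₐ[K] M) := minpoly.AlgHom.fintype K L M
  have hle : Fintype.card (L →ₐ[K] M) ≤ Field.finSepDegree K L := by
    rw [← Nat.card_eq_fintype_card]
    have : Finite (Field.Emb K L) := Fintype.finite (minpoly.AlgHom.fintype _ _ _)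
    exact Nat.card_le_card_of_injective (fun σ => (ι.restrictScalars K).comp σ)
      fun σ τ h => AlgHom.ext fun x => ι.injective (AlgHom.congr_fun h x)
  have : Nonempty (L →ₐ[K] M) := ⟨IsScalarTower.toAlgHom K L M⟩
  obtain ⟨emb⟩ : Nonempty ((L →ₐ[K] M) ↪ Fin (Field.finSepDegree K L)) :=
    Function.Embedding.nonempty_of_card_le (by rwa [Fintype.card_fin])
  let s : Fin (Field.finSepDegree K L) → (L →ₐ[K] M) := Function.invFun emb
  have hs : Function.Surjective s := Function.invFun_surjective emb.injective
  let m : MultilinearMap K (fun _ : Fin (Field.finSepDegree K L) => L) M :=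
    (MultilinearMap.mkPiAlgebra K (Fin (Field.finSepDegree K L)) M).compLinearMap
      fun i => (s i).toLinearMap
  have hm : ∀ x, m x = ∏ i, s i (x i) := fun x => rfl
  refine ⟨PiTensorProduct.liftAlgHom m (by simp [hm]) (fun x y => by
    simp [hm, Finset.prod_mul_distrib]), ?_⟩
  set f := PiTensorProduct.liftAlgHom m _ _ with hf
  have hrange : ∀ (σ : L →ₐ[K] M) (x : L), σ x ∈ f.range := by
    intro σ x
    obtain ⟨i, rfl⟩ := hs σ
    refine ⟨PiTensorProduct.tprod K (Function.update (fun _ => (1 : L)) i x), ?_⟩
    show f (PiTensorProduct.tprod K _) = _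
    simp only [hf, PiTensorProduct.liftAlgHom, AlgHom.ofLinearMap_apply, PiTensorProduct.lift.tprod,
      hm]
    rw [Finset.prod_eq_single i (fun j _ hj => by rw [Function.update_of_ne hj, map_one])
      (fun h => absurd (Finset.mem_univ i) h), Function.update_self]
  have htop : normalClosure K L M = ⊤ := (Algebra.IsAlgebraic.isNormalClosure_iff.mp inferInstance).2
  rw [← AlgHom.range_eq_top, ← top_le_iff]
  intro y _
  have hS : Algebra.adjoin K (⋃ σ : L →ₐ[K] M, (Set.range σ)) ≤ f.range :=
    Algebra.adjoin_le (Set.iUnion_subset fun σ => Set.range_subset_iff.mpr (hrange σ))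
  apply hS
  rw [← IntermediateField.adjoin_toSubalgebra_of_isAlgebraic
    (fun x _ => Algebra.IsAlgebraic.isAlgebraic x), IntermediateField.mem_toSubalgebra]
  have hle : normalClosure K L M ≤ IntermediateField.adjoin K (⋃ σ : L →ₐ[K] M, Set.range σ) :=
    iSup_le fun σ => ?_
  refine hle (htop ▸ mem_top)

  rintro _ ⟨x, rfl⟩
  exact IntermediateField.subset_adjoin K _ (Set.mem_iUnion.mpr ⟨σ, x, rfl⟩)

theorem charpoly_lmul {K L : Type u} [Field K] [Field L] [Algebra K L] [FiniteDimensional K L]
    (a : L) : (Algebra.lmul K L a).charpoly = minpoly K a ^ finrank K⟮a⟯ L ∧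
      finrank K⟮a⟯ L * (minpoly K a).natDegree = finrank K L := by
  have hint : IsIntegral K a := IsIntegral.of_finite K a
  refine ⟨?_, by rw [← adjoin.finrank hint, mul_comm, Module.finrank_mul_finrank]⟩
  rw [CSALib.charpoly_smul_tower K⟮a⟯ (AdjoinSimple.gen K a) (Algebra.lmul K L a) fun v => rfl]
  congr 1
  let pb := IntermediateField.adjoin.powerBasis hint
  have hgen : pb.gen = AdjoinSimple.gen K a := rfl
  rw [← LinearMap.charpoly_toMatrix _ pb.basis, ← hgen]
  exact (charpoly_leftMulMatrix pb).trans (by rw [hgen, IntermediateField.minpoly_gen])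

theorem trace_restrictScalars {K L : Type u} [Field K] [Field L] [Algebra K L]
    [FiniteDimensional K L] (V : Type u) [AddCommGroup V] [Module L V] [Module K V]
    [IsScalarTower K L V] [FiniteDimensional L V] (φ : V →ₗ[L] V) :
    LinearMap.trace K V (φ.restrictScalars K) = Algebra.trace K L (LinearMap.trace L V φ) := by
  classical
  let b := Module.finBasis K L
  let c := Module.finBasis L V
  rw [LinearMap.trace_eq_matrix_trace K (b.smulTower c), LinearMap.trace_eq_matrix_trace L c,
    Matrix.trace, Matrix.trace, map_sum, Fintype.sum_prod_type, Finset.sum_comm]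
  refine Finset.sum_congr rfl fun j _ => ?_
  rw [Algebra.trace_eq_matrix_trace b, Matrix.trace]
  refine Finset.sum_congr rfl fun i _ => ?_
  simp only [Matrix.diag_apply, LinearMap.toMatrix_apply, Algebra.leftMulMatrix_eq_repr_mul,
    Basis.smulTower_apply, LinearMap.restrictScalars_apply, map_smul, Basis.smulTower_repr,
    Finsupp.smul_apply, smul_eq_mul, mul_comm]

end FieldsMiscLib
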